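import Groth.Agent.AzumayaX.Fibres
import Groth.Agent.Hensel.Factor
import Mathlib.RingTheory.LocalRing.Module
import Mathlib.RingTheory.Henselian
import Mathlib.LinearAlgebra.Basis.MulOpposite

/-! Lifting isomorphisms of Azumaya algebras over a henselian local ring. -/

set_option autoImplicit false
set_option backward.isDefEq.respectTransparency false
set_option backward.isDefEq.respectTransparency.types false
set_option linter.style.haveILetI false

universe u

open TensorProduct MulOpposite IsLocalRing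

namespace Groth.Agent.H9Azumaya

variable {R : Type u} [CommRing R]

/-- An idempotent in a quotient of the algebra generated by one element of a finite algebra over a
henselian local ring lifts. -/
theorem exists_idem_lift [HenselianLocalRing R] {C E : Type u} [Ring C] [Algebra R C] [Module.Finite R C]
    [Ring E] [Algebra R E] (π : C →ₐ[R] E) (hm : ∀ r ∈ maximalIdeal R, algebraMap R E r = 0)
    (c : C) (hc : IsIdempotentElem (π c)) : ∃ e : C, IsIdempotentElem e ∧ π e = π c := by
  let S := Algebra.adjoin R {c}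
  haveI : Module.Finite R S := Module.Finite.iff_fg.2 (IsIntegral.of_finite R c).fg_adjoin_singleton
  let m := maximalIdeal R
  let J := m.map (algebraMap R S)
  let cS : S := ⟨c, Algebra.self_mem_adjoin_singleton R c⟩
  let πS : S →+* E := π.toRingHom.comp S.val.toRingHom
  have hJ : J ≤ RingHom.ker πS := by
    rw [Ideal.map_le_iff_le_comap]
    intro r hr
    exact (π.commutes r).trans (hm r hr)
  let ψ : S ⧸ J →+* E := Ideal.Quotient.lift J πS fun a ha => hJ ha
  letI : Field (R ⧸ m) := Ideal.Quotient.field m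
  haveI : Module.Finite (R ⧸ m) (S ⧸ J) := Module.Finite.of_restrictScalars_finite R (R ⧸ m) (S ⧸ J)
  haveI : IsArtinianRing (S ⧸ J) := IsArtinianRing.of_finite (R ⧸ m) (S ⧸ J)
  let x : S ⧸ J := Ideal.Quotient.mk J cS
  obtain ⟨n, d, hd⟩ := IsArtinian.exists_pow_succ_smul_dvd x (1 : S ⧸ J)
  simp only [smul_eq_mul, mul_one] at hd
  let N := n + 1
  have ha : x ^ N * (x * d) = x ^ N := by
    change x ^ (n + 1) * (x * d) = x ^ (n + 1)
    calc x ^ (n + 1) * (x * d) = x * (x ^ (n + 1) * d) := by ring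
      _ = x ^ (n + 1) := by rw [hd]; ring
  have haN : ∀ k, x ^ N * (x * d) ^ k = x ^ N := fun k => by
    induction k with
    | zero => simp
    | succ k ih => rw [pow_succ (x * d) k, ← mul_assoc, ih, ha]
  have hi : IsIdempotentElem ((x * d) ^ N) := by
    change (x * d) ^ N * (x * d) ^ N = (x * d) ^ N
    calc (x * d) ^ N * (x * d) ^ N = d ^ N * (x ^ N * (x * d) ^ N) := by ring
      _ = (x * d) ^ N := by rw [haN]; ring
  have hp : ψ x = π c := rfl
  have hpow : ∀ k, π c ^ (k + 1) = π c := fun k => hc.pow_succ_eq k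
  have hpq : π c * ψ d = π c := by
    have := congrArg ψ ha
    rw [map_mul, map_mul, map_pow, hp, hpow, ← mul_assoc, hc] at this
    exact this
  have he : ψ ((x * d) ^ N) = π c := by
    rw [map_pow, map_mul, hp, hpq, hpow]
  obtain ⟨e, he1, he2⟩ := (Hensel.bijOn_idempotents_of_isIntegral m S).surjOn hi
  exact ⟨e.1, congrArg Subtype.val he1, (congrArg ψ he2).trans he⟩

/-- Azumaya algebras over a henselian local ring with isomorphic closed fibres are isomorphic,
compatibly with the given isomorphism. -/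
theorem lift [HenselianLocalRing R] (A : Type u) [Ring A] [Algebra R A] [IsAzumaya R A] (B : Type u)
    [Ring B] [Algebra R B] [IsAzumaya R B]
    (e₀ : (ResidueField R ⊗[R] A) ≃ₐ[ResidueField R] (ResidueField R ⊗[R] B)) :
    ∃ e : A ≃ₐ[R] B, ∀ a : A, e₀ ((1 : ResidueField R) ⊗ₜ[R] a) = (1 : ResidueField R) ⊗ₜ[R] (e a) := by
  haveI : IsAzumaya (ResidueField R) (ResidueField R ⊗[R] A) := AzumayaX.isAzumaya_baseChange R (ResidueField R) A
  haveI : Module.Free R A := Module.free_of_flat_of_isLocalRing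
  haveI : Module.Free R B := Module.free_of_flat_of_isLocalRing
  let k := ResidueField R
  let Ak := k ⊗[R] A
  let V := Module.End k Ak
  let fA : A →ₐ[R] V :=
    ((Algebra.lmul k Ak).restrictScalars R).comp (Algebra.TensorProduct.includeRight)
  let fB : Bᵐᵒᵖ →ₐ[R] V :=
    (((AlgHom.mulLeftRight k Ak).comp Algebra.TensorProduct.includeRight).restrictScalars R).comp
      (AlgHom.op ((e₀.symm.toAlgHom.restrictScalars R).comp (Algebra.TensorProduct.includeRight (R := R) (A := k) (B := B))))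
  have hfA : ∀ a v, fA a v = ((1 : k) ⊗ₜ[R] a) * v := fun a v => rfl
  have hfB : ∀ b v, fB (op b) v = v * e₀.symm ((1 : k) ⊗ₜ[R] b) := fun b v =>
    (AlgHom.mulLeftRight_apply k Ak 1 (op (e₀.symm ((1 : k) ⊗ₜ[R] b))) v).trans (by rw [one_mul, unop_op])
  let π : A ⊗[R] Bᵐᵒᵖ →ₐ[R] V := Algebra.TensorProduct.lift fA fB fun a b => LinearMap.ext fun v => by
    obtain ⟨b, rfl⟩ := op_surjective b
    rw [Module.End.mul_apply, Module.End.mul_apply, hfA, hfB, hfA, hfB, mul_assoc]
  have hπ : ∀ a b v, π (a ⊗ₜ op b) v = ((1 : k) ⊗ₜ[R] a) * v * e₀.symm ((1 : k) ⊗ₜ[R] b) := fun a b v => by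
    rw [show π (a ⊗ₜ op b) = fA a * fB (op b) from Algebra.TensorProduct.lift_tmul _ _ _ a _,
      Module.End.mul_apply, hfA, hfB, mul_assoc]
  have hk : ∀ {M : Type u} [AddCommGroup M] [Module R M] (y : k ⊗[R] M), ∃ x : M, (1 : k) ⊗ₜ[R] x = y :=
    fun {M} _ _ y => TensorProduct.mk_surjective R M k residue_surjective y
  have hsurj : Function.Surjective π := by
    intro f
    obtain ⟨t, rfl⟩ := (IsAzumaya.bij (R := k) (A := Ak)).2 f
    induction t with
    | zero => exact ⟨0, by rw [map_zero, map_zero]⟩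
    | add t t' ht ht' =>
      obtain ⟨x, hx⟩ := ht; obtain ⟨x', hx'⟩ := ht'
      exact ⟨x + x', by rw [map_add, map_add, hx, hx']⟩
    | tmul u w =>
      obtain ⟨a, rfl⟩ := hk u
      obtain ⟨b, hb⟩ := hk (e₀ w.unop)
      refine ⟨a ⊗ₜ op b, LinearMap.ext fun v => ?_⟩
      rw [hπ, hb, e₀.symm_apply_apply, AlgHom.mulLeftRight_apply]
  haveI : Nontrivial Ak := by
    refine ⟨⟨(1 : k) ⊗ₜ 1, 0, fun h => one_ne_zero (α := k) ?_⟩⟩
    exact AzumayaX.tmul_one_injective A k (h.trans (TensorProduct.zero_tmul k (1 : A)).symm)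
  have hone : Function.Injective (LinearMap.toSpanSingleton k Ak 1) :=
    fun r s h => smul_left_injective k (one_ne_zero (α := Ak)) h
  obtain ⟨χ, hχ⟩ := LinearMap.exists_leftInverse_of_injective _ (LinearMap.ker_eq_bot.2 hone)
  have hχ1 : χ 1 = 1 := by
    have := LinearMap.congr_fun hχ 1
    rwa [LinearMap.comp_apply, LinearMap.toSpanSingleton_apply, one_smul, LinearMap.id_apply] at this
  let p : V := χ.smulRight (1 : Ak)
  obtain ⟨c, hc⟩ := hsurj p
  have hp : IsIdempotentElem (π c) := by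
    rw [hc]
    refine LinearMap.ext fun v => ?_
    change χ (χ v • (1 : Ak)) • (1 : Ak) = χ v • 1
    rw [map_smul, hχ1, smul_eq_mul, mul_one]
  obtain ⟨e, he, hep⟩ := exists_idem_lift π (fun r hr => LinearMap.ext fun v => by
    rw [Module.algebraMap_end_apply, ← IsScalarTower.algebraMap_smul k r v, ResidueField.algebraMap_eq,
      residue_def, Ideal.Quotient.eq_zero_iff_mem.2 hr, zero_smul, LinearMap.zero_apply]) c hp
  rw [hc] at hep
  let ev : A ⊗[R] Bᵐᵒᵖ →ₗ[R] Ak :=
    { toFun := fun x => π x 1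
      map_add' := fun x y => by rw [map_add, LinearMap.add_apply]
      map_smul' := fun r x => by rw [map_smul, LinearMap.smul_apply, RingHom.id_apply] }
  have hp1 : p 1 = 1 := by
    change χ 1 • (1 : Ak) = 1
    rw [hχ1, one_smul]
  let α : A →ₗ[R] A ⊗[R] Bᵐᵒᵖ :=
    (LinearMap.mulRight R e).comp (Algebra.TensorProduct.includeLeft (S := R)).toLinearMap
  have hα : ∀ a, α a = (a ⊗ₜ 1) * e := fun a => rfl
  let β : B →ₗ[R] A ⊗[R] Bᵐᵒᵖ :=
    ((LinearMap.mulRight R e).comp (Algebra.TensorProduct.includeRight).toLinearMap).comp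
      (MulOpposite.opLinearEquiv R).toLinearMap
  have hβ : ∀ b, β b = (1 ⊗ₜ op b) * e := fun b => rfl
  have hevα : ∀ a, ev (α a) = (1 : k) ⊗ₜ[R] a := fun a => by
    change π (α a) 1 = _
    rw [hα, map_mul, Module.End.mul_apply, hep, hp1, ← op_one, hπ, mul_one, ← Algebra.TensorProduct.one_def,
      map_one, mul_one]
  have hevβ : ∀ b, ev (β b) = e₀.symm ((1 : k) ⊗ₜ[R] b) := fun b => by
    change π (β b) 1 = _
    rw [hβ, map_mul, Module.End.mul_apply, hep, hp1, hπ, mul_one, ← Algebra.TensorProduct.one_def, one_mul]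
  let evk : k ⊗[R] (A ⊗[R] Bᵐᵒᵖ) →ₗ[k] Ak := ev.liftBaseChange k
  have hevk : ∀ x, evk ((1 : k) ⊗ₜ x) = ev x := fun x =>
    (LinearMap.liftBaseChange_tmul k ev 1 x).trans (one_smul _ _)
  -- injectivity of `α`
  have hαk : Function.Injective (α.lTensor k) := by
    intro y z hyz
    obtain ⟨y, rfl⟩ := hk y
    obtain ⟨z, rfl⟩ := hk z
    have := congrArg evk hyz
    rwa [LinearMap.lTensor_tmul, LinearMap.lTensor_tmul, hevk, hevk, hevα, hevα] at this
  obtain ⟨αl, hαl⟩ := (split_injective_iff_lTensor_residueField_injective α).2 hαk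
  have hαi : Function.Injective α := Function.LeftInverse.injective (g := αl) fun a => LinearMap.congr_fun hαl a
  -- surjectivity of `α` onto the elements fixed by right multiplication by `e`
  let P : Submodule R (A ⊗[R] Bᵐᵒᵖ) := LinearMap.range (LinearMap.mulRight R e)
  have hP : ∀ x, x ∈ P ↔ x * e = x := fun x => ⟨fun ⟨y, hy⟩ => by
    rw [← hy, LinearMap.mulRight_apply, mul_assoc, he], fun h => ⟨x, h⟩⟩
  haveI : Module.Finite R P := Module.Finite.range _
  let r : A ⊗[R] Bᵐᵒᵖ →ₗ[R] P := (LinearMap.mulRight R e).rangeRestrict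
  have hr : r ∘ₗ P.subtype = LinearMap.id := LinearMap.ext fun x => Subtype.ext ((hP _).1 x.2)
  let α' : A →ₗ[R] P := α.codRestrict P fun a => (hP _).2 (by rw [hα, mul_assoc, he])
  let πk : k ⊗[R] (A ⊗[R] Bᵐᵒᵖ) →ₗ[k] V := π.toLinearMap.liftBaseChange k
  have hπk : ∀ x, πk ((1 : k) ⊗ₜ x) = π x := fun x =>
    (LinearMap.liftBaseChange_tmul k π.toLinearMap 1 x).trans (one_smul _ _)
  haveI : Module.Free R Bᵐᵒᵖ := Module.Free.of_equiv (MulOpposite.opLinearEquiv R)
  haveI : Module.Free R (A ⊗[R] Bᵐᵒᵖ) := inferInstance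
  have hπki : Function.Injective πk := by
    refine (LinearMap.injective_iff_surjective_of_finrank_eq_finrank ?_).2 fun f => ?_
    · have hn : Module.finrank R A = Module.finrank R B := by
        rw [← Module.finrank_baseChange (R := k), ← Module.finrank_baseChange (R := k) (M' := B)]
        exact e₀.toLinearEquiv.finrank_eq
      rw [Module.finrank_linearMap, Module.finrank_baseChange, Module.finrank_baseChange,
        Module.finrank_tensorProduct, ← (MulOpposite.opLinearEquiv R (M := B)).finrank_eq, hn]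
    · obtain ⟨x, rfl⟩ := hsurj f
      exact ⟨_, hπk x⟩
  have hker : ∀ x ∈ P, ev x = 0 → (1 : k) ⊗ₜ[R] x = 0 := fun x hx h0 => by
    refine hπki ?_
    rw [hπk, map_zero, ← (hP x).1 hx, map_mul, hep]
    refine LinearMap.ext fun v => ?_
    change π x (χ v • 1) = 0
    rw [map_smul, show π x 1 = 0 from h0, smul_zero]
  have hα's : Function.Surjective α' := by
    suffices h : ∀ y, y ∈ Submodule.map (TensorProduct.mk R k _ 1) (LinearMap.range α') from
      LinearMap.range_eq_top.1 ((map_tensorProduct_mk_eq_top (R := R) (M := P)).1 (Submodule.eq_top_iff'.2 h))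
    intro y
    obtain ⟨x, rfl⟩ := hk (M := P) y
    obtain ⟨a, ha⟩ := hk (ev x.1)
    refine ⟨α' a, LinearMap.mem_range_self _ a, ?_⟩
    rw [TensorProduct.mk_apply]
    have h0 := hker _ (sub_mem (α' a).2 x.2) (by
      rw [map_sub, show ev (α' a : A ⊗[R] Bᵐᵒᵖ) = ev (α a) from rfl, hevα, ha, sub_self])
    rw [TensorProduct.tmul_sub, sub_eq_zero] at h0
    have := congrArg (r.lTensor k) h0
    rwa [LinearMap.lTensor_tmul, LinearMap.lTensor_tmul, show r (α' a).1 = α' a from Subtype.ext ((hP _).1 (α' a).2),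
      show r x.1 = x from Subtype.ext ((hP _).1 x.2)] at this
  have hex : ∀ b, ∃ a, α a = β b := fun b => by
    obtain ⟨a, ha⟩ := hα's ⟨β b, (hP _).2 (by rw [hβ, mul_assoc, he])⟩
    exact ⟨a, congrArg Subtype.val ha⟩
  choose φ hφ using hex
  let φA : B →ₐ[R] A := AlgHom.ofLinearMap
    { toFun := φ
      map_add' := fun x y => hαi (by rw [map_add, hφ, hφ, hφ, map_add])
      map_smul' := fun s x => hαi (by rw [map_smul, hφ, hφ, RingHom.id_apply, map_smul]) }
    (hαi (by
      change α (φ 1) = α 1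
      rw [hφ, hβ, hα, op_one]))
    (fun b b' => hαi (by
      change α (φ (b * b')) = α (φ b * φ b')
      have h1 : (1 : A) ⊗ₜ[R] op (b * b') = (1 ⊗ₜ op b') * (1 ⊗ₜ op b) := by
        rw [Algebra.TensorProduct.tmul_mul_tmul, one_mul, op_mul]
      have h2 : (φ b * φ b') ⊗ₜ[R] (1 : Bᵐᵒᵖ) = (φ b ⊗ₜ 1) * (φ b' ⊗ₜ 1) := by
        rw [Algebra.TensorProduct.tmul_mul_tmul, one_mul]
      have h3 : ((1 : A) ⊗ₜ[R] op b') * (φ b ⊗ₜ 1) = (φ b ⊗ₜ 1) * (1 ⊗ₜ op b') := by
        rw [Algebra.TensorProduct.tmul_mul_tmul, Algebra.TensorProduct.tmul_mul_tmul, one_mul, mul_one,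
          one_mul, mul_one]
      rw [hφ, hβ, h1, mul_assoc, ← hβ b, ← hφ b, hα, ← mul_assoc, h3, mul_assoc, ← hβ b', ← hφ b',
        hα, hα, h2, mul_assoc]))
  have hφk : ∀ b, (1 : k) ⊗ₜ[R] φA b = e₀.symm ((1 : k) ⊗ₜ[R] b) := fun b => by
    rw [← hevα, show α (φA b) = β b from hφ b, hevβ]
  have hbij : Function.Bijective φA := by
    constructor
    · have hi : Function.Injective (φA.toLinearMap.lTensor k) := by
        intro y z hyz
        obtain ⟨y, rfl⟩ := hk y
        obtain ⟨z, rfl⟩ := hk z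
        rw [LinearMap.lTensor_tmul, LinearMap.lTensor_tmul] at hyz
        exact e₀.symm.injective ((hφk y).symm.trans (hyz.trans (hφk z)))
      obtain ⟨l, hl⟩ := (split_injective_iff_lTensor_residueField_injective φA.toLinearMap).2 hi
      exact Function.LeftInverse.injective (g := l) fun a => LinearMap.congr_fun hl a
    · change Function.Surjective φA.toLinearMap
      suffices h : ∀ y, y ∈ Submodule.map (TensorProduct.mk R k _ 1) (LinearMap.range φA.toLinearMap) from
        LinearMap.range_eq_top.1 (map_tensorProduct_mk_eq_top.1 (Submodule.eq_top_iff'.2 h))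
      intro y
      obtain ⟨b, hb⟩ := hk (e₀ y)
      refine ⟨φA b, LinearMap.mem_range_self _ b, ?_⟩
      change (1 : k) ⊗ₜ[R] φA b = y
      rw [hφk, hb, e₀.symm_apply_apply]
  refine ⟨(AlgEquiv.ofBijective φA hbij).symm, fun a => ?_⟩
  obtain ⟨b, rfl⟩ := hbij.2 a
  rw [AlgEquiv.ofBijective_symm_apply_apply, hφk, e₀.apply_symm_apply]

end Groth.Agent.H9Azumaya
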